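import Groth.Agent.EmbLift.Step
import Groth.Agent.S0040
import Groth.Agent.S11762
import Groth.Agent.AssLib.FlatField
import Groth.Prelude.Def_CohB1
import Mathlib.RingTheory.DiscreteValuationRing.Basic

/-!
# Embedded flat lifts over a complete discrete valuation ring
-/

set_option autoImplicit false
attribute [-instance] CategoryTheory.catToReflQuiver
set_option linter.style.haveILetI false
set_option backward.isDefEq.respectTransparency false
set_option backward.isDefEq.respectTransparency.types false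
set_option maxHeartbeats 1600000

universe u

open CategoryTheory CategoryTheory.Limits AlgebraicGeometry Opposite TopologicalSpace

noncomputable section

namespace Groth.Agent.EmbLift

variable {R : Type u} [CommRing R] [IsDomain R] [IsDiscreteValuationRing R]

local notation "𝔪" => IsLocalRing.maximalIdeal R

/-- `R/𝔪^(n+1) ⟶ κ`. -/
def epsR (R : Type u) [CommRing R] [IsLocalRing R] (n : ℕ) :
    CommRingCat.of (R ⧸ IsLocalRing.maximalIdeal R ^ (n + 1)) ⟶ CommRingCat.of (IsLocalRing.ResidueField R) :=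
  CommRingCat.ofHom (Ideal.Quotient.factor (Ideal.pow_le_self (Nat.succ_ne_zero n)) :
    R ⧸ IsLocalRing.maximalIdeal R ^ (n + 1) →+* R ⧸ IsLocalRing.maximalIdeal R)

theorem epsR_surjective (n : ℕ) : Function.Surjective (epsR R n).hom :=
  Ideal.Quotient.factor_surjective (Ideal.pow_le_self (Nat.succ_ne_zero n))

theorem specMap_epsR_specQuot (n : ℕ) : Spec.map (epsR R n) ≫ CohB1.specQuot 𝔪 n =
    Spec.map (CommRingCat.ofHom (IsLocalRing.residue R)) := by
  rw [CohB1.specQuot, ← Spec.map_comp]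
  congr 1

theorem specMap_epsR_trans (n : ℕ) :
    Spec.map (epsR R n) ≫ CohB1.specQuotTrans 𝔪 n = Spec.map (epsR R (n + 1)) := by
  rw [CohB1.specQuotTrans, ← Spec.map_comp]
  congr 1
  ext x
  rfl

instance isIso_epsR_zero : IsIso (epsR R 0) :=
  (ConcreteCategory.isIso_iff_bijective _).2 ⟨(injective_iff_map_eq_zero (epsR R 0).hom).2 fun x hx => by
    obtain ⟨a, rfl⟩ := Ideal.Quotient.mk_surjective x
    exact Ideal.Quotient.eq_zero_iff_mem.2 (by rw [pow_one]; exact Ideal.Quotient.eq_zero_iff_mem.1 hx),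
    epsR_surjective 0⟩

variable {P : Scheme.{u}} (f : P ⟶ Spec (CommRingCat.of R))

local notation "ρκ" => Spec.map (CommRingCat.ofHom (IsLocalRing.residue R))

/-- The closed fibre inside a thickening. -/
def toThick (n : ℕ) : pullback f ρκ ⟶ CohB1.thick f 𝔪 n :=
  pullback.lift (pullback.fst _ _) (pullback.snd _ _ ≫ Spec.map (epsR R n)) (by
    rw [Category.assoc, specMap_epsR_specQuot]
    exact pullback.condition)

theorem toThick_ι (n : ℕ) : toThick f n ≫ CohB1.thickι f 𝔪 n = pullback.fst f ρκ := pullback.lift_fst _ _ _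

theorem isPullback_toThick (n : ℕ) :
    IsPullback (toThick f n) (pullback.snd f ρκ) (CohB1.thickToBase f 𝔪 n) (Spec.map (epsR R n)) := by
  refine IsPullback.of_right ?_ (pullback.lift_snd _ _ _) (IsPullback.of_hasPullback f (CohB1.specQuot 𝔪 n))
  rw [specMap_epsR_specQuot]
  show IsPullback (toThick f n ≫ CohB1.thickι f 𝔪 n) _ _ _
  rw [toThick_ι]
  exact IsPullback.of_hasPullback _ _

theorem toThick_trans (n : ℕ) : toThick f n ≫ CohB1.thickTrans f 𝔪 n = toThick f (n + 1) := by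
  apply pullback.hom_ext
  · simp [toThick, CohB1.thickTrans]
  · simp only [toThick, CohB1.thickTrans, Category.assoc, pullback.lift_snd, pullback.lift_snd_assoc]
    rw [specMap_epsR_trans]

theorem isPullback_thickTrans (n : ℕ) : IsPullback (CohB1.thickTrans f 𝔪 n) (CohB1.thickToBase f 𝔪 n)
    (CohB1.thickToBase f 𝔪 (n + 1)) (CohB1.specQuotTrans 𝔪 n) := by
  refine IsPullback.of_right ?_ (pullback.lift_snd _ _ _) (IsPullback.of_hasPullback f (CohB1.specQuot 𝔪 (n + 1)))
  change IsPullback (CohB1.thickTrans f 𝔪 n ≫ CohB1.thickι f 𝔪 (n + 1)) _ _ _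
  rw [show CohB1.thickTrans f 𝔪 n ≫ CohB1.thickι f 𝔪 (n + 1) = CohB1.thickι f 𝔪 n by simp [CohB1.thickTrans],
    CohB1.specQuotTrans_specQuot]
  exact IsPullback.of_hasPullback _ _

/-- A lift of `X₀` to the `n`-th thickening. -/
structure Level {X₀ : Scheme.{u}} (z₀ : X₀ ⟶ pullback f ρκ) (n : ℕ) : Type (u + 1) where
  X : Scheme.{u}
  z : X ⟶ CohB1.thick f 𝔪 n
  j : X₀ ⟶ X
  closed : IsClosedImmersion z
  flat : Flat (z ≫ CohB1.thickToBase f 𝔪 n)
  sq : IsPullback j z₀ z (toThick f n)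


theorem nonempty_zero {X₀ : Scheme.{u}} (z₀ : X₀ ⟶ pullback f ρκ) [IsClosedImmersion z₀] : Nonempty (Level f z₀ 0) := by
  haveI : IsIso (toThick f 0) := (isPullback_toThick f 0).isIso_fst_of_isIso
  refine ⟨⟨X₀, z₀ ≫ toThick f 0, 𝟙 X₀, inferInstance, ?_, IsPullback.of_horiz_isIso ⟨by simp⟩⟩⟩
  rw [Category.assoc, (isPullback_toThick f 0).w, ← Category.assoc]
  haveI : Flat (z₀ ≫ pullback.snd f ρκ) :=
    AssLib.flat_over_field (k := IsLocalRing.ResidueField R) _
  exact inferInstance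

theorem nonempty_succ {X₀ : Scheme.{u}} (z₀ : X₀ ⟶ pullback f ρκ) [Flat f] [HasExt.{u} X₀.Modules] (hreg : Mor2.IsRegularClosedImmersion z₀)
    (h1 : Subsingleton (Abelian.Ext.{u} (Omega.conormal z₀) (Coh.structureModule X₀) 1))
    (n : ℕ) (L : Level f z₀ n) :
    ∃ (L' : Level f z₀ (n + 1)) (t : L.X ⟶ L'.X), IsPullback t L.z L'.z (CohB1.thickTrans f 𝔪 n) := by
  classical
  haveI hB : IsLocalRing (R ⧸ 𝔪 ^ (n + 1 + 1)) :=
    haveI : Nontrivial (R ⧸ 𝔪 ^ (n + 1 + 1)) := Ideal.Quotient.nontrivial_iff.2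
      fun h => (IsLocalRing.maximalIdeal.isMaximal R).ne_top
        (top_le_iff.1 (h.symm.le.trans (Ideal.pow_le_self (Nat.succ_ne_zero _))))
    IsLocalRing.of_surjective' (Ideal.Quotient.mk _) Ideal.Quotient.mk_surjective
  haveI hA : IsLocalRing (R ⧸ 𝔪 ^ (n + 1)) :=
    haveI : Nontrivial (R ⧸ 𝔪 ^ (n + 1)) := Ideal.Quotient.nontrivial_iff.2
      fun h => (IsLocalRing.maximalIdeal.isMaximal R).ne_top
        (top_le_iff.1 (h.symm.le.trans (Ideal.pow_le_self (Nat.succ_ne_zero _))))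
    IsLocalRing.of_surjective' (Ideal.Quotient.mk _) Ideal.Quotient.mk_surjective
  obtain ⟨ϖ, hϖ⟩ := IsDiscreteValuationRing.exists_irreducible R
  have hm : (𝔪 : Ideal R) = Ideal.span {ϖ} := hϖ.maximalIdeal_eq
  haveI : Flat (CohB1.thickToBase f 𝔪 (n + 1)) :=
    MorphismProperty.of_isPullback (P := @Flat) (IsPullback.of_hasPullback f (CohB1.specQuot 𝔪 (n + 1))) ‹Flat f›
  haveI := L.closed
  have hmax : ∀ k : ℕ, ∀ [IsLocalRing (R ⧸ 𝔪 ^ (k + 1))],
      IsLocalRing.maximalIdeal (R ⧸ 𝔪 ^ (k + 1)) = (𝔪 : Ideal R).map (Ideal.Quotient.mk _) := fun k _ =>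
    (IsLocalRing.map_maximalIdeal_of_surjective _ Ideal.Quotient.mk_surjective).symm
  let D : Data.{u} :=
    { B := CommRingCat.of (R ⧸ 𝔪 ^ (n + 1 + 1))
      A := CommRingCat.of (R ⧸ 𝔪 ^ (n + 1))
      K := CommRingCat.of (IsLocalRing.ResidueField R)
      localB := hB
      localA := hA
      noetherB := inferInstanceAs (IsNoetherianRing (R ⧸ 𝔪 ^ (n + 1 + 1)))
      p := CommRingCat.ofHom (Ideal.Quotient.factor (Ideal.pow_le_pow_right (Nat.le_succ (n + 1))))
      ε := epsR R n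
      t := Ideal.Quotient.mk _ (ϖ ^ (n + 1))
      hp := Ideal.Quotient.factor_surjective (Ideal.pow_le_pow_right (Nat.le_succ (n + 1)))
      hε := epsR_surjective n
      hεk := IsLocalRing.eq_maximalIdeal (RingHom.ker_isMaximal_of_surjective (epsR R n).hom (epsR_surjective n))
      hpk := by
        show RingHom.ker (Ideal.Quotient.factor (Ideal.pow_le_pow_right (Nat.le_succ (n + 1)) : 𝔪 ^ (n + 1 + 1) ≤ 𝔪 ^ (n + 1))) = _
        rw [Ideal.Quotient.factor_ker, show (𝔪 : Ideal R) ^ (n + 1) = Ideal.span {ϖ ^ (n + 1)} by rw [hm, Ideal.span_singleton_pow],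
          Ideal.map_span, Set.image_singleton]
      ht0 := fun h => by
        have h' : ϖ ^ (n + 1) ∈ (𝔪 : Ideal R) ^ (n + 1 + 1) := Ideal.Quotient.eq_zero_iff_mem.1 h
        rw [hm, Ideal.span_singleton_pow, Ideal.mem_span_singleton, pow_dvd_pow_iff hϖ.ne_zero hϖ.not_isUnit] at h'
        omega
      hmt := by
        show IsLocalRing.maximalIdeal (R ⧸ 𝔪 ^ (n + 1 + 1)) * _ = _
        rw [hmax (n + 1), eq_bot_iff, Ideal.mul_le]
        intro a ha b hb
        obtain ⟨a', ha', rfl⟩ := (Ideal.mem_map_iff_of_surjective _ Ideal.Quotient.mk_surjective).1 ha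
        obtain ⟨c, rfl⟩ := Ideal.mem_span_singleton'.1 hb
        obtain ⟨c', rfl⟩ := Ideal.Quotient.mk_surjective c
        rw [← map_mul, ← map_mul, Ideal.mem_bot, Ideal.Quotient.eq_zero_iff_mem, pow_succ']
        exact Ideal.mul_mem_mul ha' (Ideal.mul_mem_left _ _ (Ideal.pow_mem_pow (hm ▸ Ideal.mem_span_singleton_self ϖ) _))
      hnil := ⟨n + 1, by
        show IsLocalRing.maximalIdeal (R ⧸ 𝔪 ^ (n + 1)) ^ (n + 1) = _
        rw [hmax n, ← Ideal.map_pow, Ideal.map_quotient_self]; rfl⟩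
      P := CohB1.thick f 𝔪 (n + 1)
      PA := CohB1.thick f 𝔪 n
      P0 := pullback f ρκ
      X := L.X
      X0 := X₀
      pr := CohB1.thickToBase f 𝔪 (n + 1)
      prA := CohB1.thickToBase f 𝔪 n
      pr0 := pullback.snd f ρκ
      a := CohB1.thickTrans f 𝔪 n
      e := toThick f n
      z := L.z
      z0 := z₀
      j := L.j
      ha := isPullback_thickTrans f n
      he := isPullback_toThick f n
      flat_z := L.flat
      hj := L.sq }
  haveI : HasExt.{u} D.X0.Modules := ‹HasExt.{u} X₀.Modules›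
  obtain ⟨X', z', t, hz', hflat, ht⟩ := D.exists_lift hreg h1
  have hs : IsPullback (L.j ≫ t) z₀ z' (toThick f (n + 1)) := by
    rw [← toThick_trans f n]
    exact L.sq.paste_horiz ht
  exact ⟨⟨X', z', L.j ≫ t, hz', hflat, hs⟩, t, ht⟩

/-- A compatible system of lifts. -/
theorem exists_system {X₀ : Scheme.{u}} (z₀ : X₀ ⟶ pullback f ρκ) [Flat f] [HasExt.{u} X₀.Modules] (hreg : Mor2.IsRegularClosedImmersion z₀)
    (h1 : Subsingleton (Abelian.Ext.{u} (Omega.conormal z₀) (Coh.structureModule X₀) 1)) :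
    ∃ (L : ∀ n, Level f z₀ n) (t : ∀ n, (L n).X ⟶ (L (n + 1)).X),
      ∀ n, IsPullback (t n) (L n).z (L (n + 1)).z (CohB1.thickTrans f 𝔪 n) := by
  haveI := hreg.1
  choose F T hT using fun n L => nonempty_succ f z₀ hreg h1 n L
  let L : ∀ n, Level f z₀ n := fun n => Nat.rec (nonempty_zero f z₀).some (fun k Lk => F k Lk) n
  exact ⟨L, fun n => T n (L n), fun n => hT n (L n)⟩

/-- An embedded flat lift of a regularly immersed subscheme with unobstructed deformations. -/
theorem exists_flat_lift {X₀ : Scheme.{u}} (z₀ : X₀ ⟶ pullback f ρκ) [IsAdicComplete 𝔪 R] [IsProper f] [Flat f] [HasExt.{u} X₀.Modules]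
    (hreg : Mor2.IsRegularClosedImmersion z₀)
    (h1 : Subsingleton (Abelian.Ext.{u} (Omega.conormal z₀) (Coh.structureModule X₀) 1)) :
    ∃ (X : Scheme.{u}) (j : X ⟶ P) (i : X₀ ⟶ X), IsClosedImmersion j ∧ Flat (j ≫ f) ∧
      IsPullback i z₀ j (pullback.fst f ρκ) := by
  obtain ⟨L, t, ht⟩ := exists_system f z₀ hreg h1
  haveI := (L 0).closed
  obtain ⟨W, i, w, hi, hp, -, hw⟩ := Groth.Agent.S0040.result R 𝔪 f (fun n => (L n).X) (fun n => (L n).z) t
    (fun n => (L n).closed) ht inferInstance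
  haveI := hi
  haveI := hp
  haveI : Flat (i ≫ f) := Groth.Agent.S11762.result R (i ≫ f) fun k => by
    have hk : IsPullback (w k) ((L k).z ≫ CohB1.thickToBase f 𝔪 k) (i ≫ f) (CohB1.specQuot 𝔪 k) :=
      (hw k).paste_vert (IsPullback.of_hasPullback f (CohB1.specQuot 𝔪 k))
    have e : pullback.snd (i ≫ f) (CohB1.specQuot 𝔪 k) = hk.isoPullback.inv ≫ (L k).z ≫ CohB1.thickToBase f 𝔪 k := by
      rw [Iso.eq_inv_comp]
      exact hk.isoPullback_hom_snd
    haveI := (L k).flat
    show Flat (pullback.snd (i ≫ f) (CohB1.specQuot 𝔪 k))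
    rw [e]
    infer_instance
  refine ⟨W, i, (L 0).j ≫ w 0, hi, inferInstance, ?_⟩
  rw [← toThick_ι f 0]
  exact (L 0).sq.paste_horiz (hw 0)

end Groth.Agent.EmbLift
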