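import Groth.Agent.ArtFunLib.HilbKoszul
import Groth.Agent.ArtFunLib.HilbAffine

/-!
# A square-zero step: the local rings

A flat scheme `P` over a local ring `B`, its reductions `PA` over a quotient `A = B/(t)` with `m t = 0`
and `P₀` over the residue field, and a closed subscheme `X` of `PA` flat over `A` with reduction `X₀`.
-/

set_option autoImplicit false
attribute [-instance] CategoryTheory.catToReflQuiver
set_option linter.style.haveILetI false
set_option backward.isDefEq.respectTransparency false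
set_option backward.isDefEq.respectTransparency.types false
set_option maxHeartbeats 1000000

universe u

open CategoryTheory CategoryTheory.Limits AlgebraicGeometry Opposite TopologicalSpace

namespace Groth.Agent.EmbLift

/-- The constants on an open of a scheme over `Spec S`. -/
noncomputable def cst {S : CommRingCat.{u}} {Q : Scheme.{u}} (q : Q ⟶ Spec S) (U : Q.Opens) : S →+* Γ(Q, U) :=
  (q.appLE ⊤ U (fun _ _ => trivial)).hom.comp (Scheme.ΓSpecIso S).inv.hom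

theorem cst_comp {S T : CommRingCat.{u}} {φ : S ⟶ T} {Q' Q : Scheme.{u}} (g : Q' ⟶ Q) (q : Q ⟶ Spec S)
    (q' : Q' ⟶ Spec T) (h : g ≫ q = q' ≫ Spec.map φ) (U : Q.Opens) (s : S) :
    g.app U (cst q U s) = cst q' (g ⁻¹ᵁ U) (φ s) := by
  have h1 : q.appLE ⊤ U (fun _ _ => trivial) ≫ g.app U =
      (Spec.map φ).appTop ≫ q'.appLE ⊤ (g ⁻¹ᵁ U) (fun _ _ => trivial) := by
    rw [Scheme.Hom.app_eq_appLE, Scheme.Hom.appLE_comp_appLE]
    simp only [h, Scheme.Hom.comp_appLE]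
    rfl
  have h2 := Scheme.ΓSpecIso_inv_naturality φ
  refine (congr($h1 ((Scheme.ΓSpecIso S).inv s))).trans ?_
  exact congrArg (q'.appLE ⊤ (g ⁻¹ᵁ U) (fun _ _ => trivial)).hom (congr($h2 s)).symm

theorem cst_map {S : CommRingCat.{u}} {Q : Scheme.{u}} (q : Q ⟶ Spec S) {U V : Q.Opens} (h : V ≤ U) (s : S) :
    Q.presheaf.map (homOfLE h).op (cst q U s) = cst q V s :=
  congr($(Scheme.Hom.appLE_map (f := q) (U := ⊤) (fun _ _ => trivial) (homOfLE h).op) ((Scheme.ΓSpecIso S).inv s))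

theorem cst_flat {S : CommRingCat.{u}} {Q : Scheme.{u}} (q : Q ⟶ Spec S) [Flat q] (U : Q.affineOpens) :
    (cst q U.1).Flat :=
  (RingHom.Flat.of_bijective (ConcreteCategory.bijective_of_isIso (Scheme.ΓSpecIso S).inv)).comp
    (q.flat_appLE (U := ⊤) (isAffineOpen_top _) U.2 (fun _ _ => trivial))

/-- The data of a step. -/
structure Data : Type (u + 1) where
  B : CommRingCat.{u}
  A : CommRingCat.{u}
  K : CommRingCat.{u}
  [localB : IsLocalRing B]
  [localA : IsLocalRing A]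
  [noetherB : IsNoetherianRing B]
  p : B ⟶ A
  ε : A ⟶ K
  t : B
  hp : Function.Surjective p
  hε : Function.Surjective ε
  hεk : RingHom.ker ε.hom = IsLocalRing.maximalIdeal A
  hpk : RingHom.ker p.hom = Ideal.span {t}
  ht0 : t ≠ 0
  hmt : IsLocalRing.maximalIdeal B * Ideal.span {t} = ⊥
  hnil : IsNilpotent (IsLocalRing.maximalIdeal A)
  P : Scheme.{u}
  PA : Scheme.{u}
  P0 : Scheme.{u}
  X : Scheme.{u}
  X0 : Scheme.{u}
  pr : P ⟶ Spec B
  prA : PA ⟶ Spec A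
  pr0 : P0 ⟶ Spec K
  a : PA ⟶ P
  e : P0 ⟶ PA
  z : X ⟶ PA
  z0 : X0 ⟶ P0
  j : X0 ⟶ X
  [flat_pr : Flat pr]
  ha : IsPullback a prA pr (Spec.map p)
  he : IsPullback e pr0 prA (Spec.map ε)
  [closed_z : IsClosedImmersion z]
  flat_z : Flat (z ≫ prA)
  hj : IsPullback j z0 z e

namespace Data

variable (D : Data.{u})

attribute [instance] Data.localB Data.localA Data.noetherB Data.flat_pr Data.closed_z

instance isClosedImmersion_a : IsClosedImmersion D.a :=
  haveI := IsClosedImmersion.spec_of_surjective D.p D.hp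
  MorphismProperty.of_isPullback (P := @IsClosedImmersion) D.ha.flip inferInstance

instance isClosedImmersion_e : IsClosedImmersion D.e :=
  haveI := IsClosedImmersion.spec_of_surjective D.ε D.hε
  MorphismProperty.of_isPullback (P := @IsClosedImmersion) D.he.flip inferInstance

instance isClosedImmersion_z0 : IsClosedImmersion D.z0 :=
  MorphismProperty.of_isPullback (P := @IsClosedImmersion) D.hj inferInstance

/-- The closed fibre inside `P`. -/
noncomputable abbrev b : D.P0 ⟶ D.P := D.e ≫ D.a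

/-- `X₀` inside `P`. -/
noncomputable abbrev i : D.X0 ⟶ D.P := D.z0 ≫ D.b

variable (U : D.P.affineOpens)

/-- The affine open of `PA`. -/
noncomputable def VA : D.PA.affineOpens := ⟨D.a ⁻¹ᵁ U.1, U.2.preimage D.a⟩

/-- The affine open of `P₀`. -/
noncomputable def V0 : D.P0.affineOpens := ⟨D.b ⁻¹ᵁ U.1, U.2.preimage D.b⟩

/-- The ideal of `X`. -/
noncomputable def IA : Ideal Γ(D.PA, D.a ⁻¹ᵁ U.1) := D.z.ker.ideal (D.VA U)

/-- The ideal of `X₀`. -/
noncomputable def I0 : Ideal Γ(D.P0, D.b ⁻¹ᵁ U.1) := D.z0.ker.ideal (D.V0 U)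

theorem map_IA : (D.IA U).map (D.e.app (D.a ⁻¹ᵁ U.1)).hom = D.I0 U := by
  have h : D.z.ker.comap D.e = D.z0.ker := by
    rw [← D.hj.flip.isoPullback_hom_fst, Scheme.Hom.ker_comp_of_isIso,
      Scheme.IdealSheafData.ker_fst_of_isClosedImmersion]
  show (D.z.ker.ideal (D.VA U)).map _ = D.z0.ker.ideal (D.V0 U)
  rw [← h, ModPairLib.ideal_comap D.z.ker D.e (D.VA U) (D.V0 U) le_rfl, Scheme.Hom.app_eq_appLE]
  rfl

theorem mem_I0_iff (x : Γ(D.P, U.1)) : D.b.app U.1 x ∈ D.I0 U ↔ D.i.app U.1 x = 0 := by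
  show D.b.app U.1 x ∈ D.z0.ker.ideal (D.V0 U) ↔ _
  rw [Scheme.Hom.ker_apply, RingHom.mem_ker]
  rfl

theorem map_maximal_B : (IsLocalRing.maximalIdeal D.B).map D.p.hom = IsLocalRing.maximalIdeal D.A :=
  IsLocalRing.map_maximalIdeal_of_surjective D.p.hom D.hp

theorem ker_pε : RingHom.ker (D.p ≫ D.ε).hom = IsLocalRing.maximalIdeal D.B := by
  rw [CommRingCat.hom_comp, ← RingHom.comap_ker, D.hεk]
  exact IsLocalRing.eq_maximalIdeal (Ideal.comap_isMaximal_of_surjective D.p.hom D.hp (K := IsLocalRing.maximalIdeal D.A))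

/-- The ring situation over `U`. -/
noncomputable def sit : ArtFunLib.HilbObsRing.Sit D.B D.A Γ(D.P, U.1) Γ(D.PA, D.a ⁻¹ᵁ U.1) Γ(D.P0, D.b ⁻¹ᵁ U.1) where
  p := D.p.hom
  m := IsLocalRing.maximalIdeal D.B
  t := D.t
  c := cst D.pr U.1
  cA := cst D.prA (D.a ⁻¹ᵁ U.1)
  π := (D.a.app U.1).hom
  ρ := (D.b.app U.1).hom
  ρA := (D.e.app (D.a ⁻¹ᵁ U.1)).hom
  hp := D.hp
  hker := D.hpk
  hmt x hx := by rw [← Ideal.mem_bot, ← D.hmt]; exact Ideal.mul_mem_mul hx (Ideal.mem_span_singleton_self D.t)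
  hm x hx := by
    by_contra hne
    exact D.ht0 (((IsLocalRing.notMem_maximalIdeal.1 hne).mul_left_eq_zero).1 hx)
  htm := by
    rw [← D.ker_pε, RingHom.mem_ker]
    show D.ε.hom (D.p.hom D.t) = 0
    rw [RingHom.mem_ker.1 (D.hpk.ge (Ideal.mem_span_singleton_self D.t)), map_zero]
  hmA := D.map_maximal_B
  hnil := D.hnil
  hflat := cst_flat D.pr U
  hπ := D.a.app_surjective U.1 U.2
  hπker := by
    have h := (ArtFunLib.HilbAffine.ker_appLE_of_isPullback (φ := D.p) D.hp D.ha U (D.a ⁻¹ᵁ U.1) rfl le_rfl).2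
    rw [← Scheme.Hom.app_eq_appLE, D.hpk, Ideal.map_span, Set.image_singleton] at h
    exact h
  hπc := cst_comp D.a D.pr D.prA D.ha.w U.1
  hρπ r := rfl
  hρker := by
    have h := (ArtFunLib.HilbAffine.ker_appLE_of_isPullback (φ := D.p ≫ D.ε) (g := D.b) (pr' := D.pr0) (pr := D.pr)
      (D.hε.comp D.hp) (by rw [Spec.map_comp]; exact D.he.paste_horiz D.ha) U (D.b ⁻¹ᵁ U.1) rfl le_rfl).2
    rw [← Scheme.Hom.app_eq_appLE, D.ker_pε] at h
    exact h
  hρAker := by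
    have h := (ArtFunLib.HilbAffine.ker_appLE_of_isPullback (φ := D.ε) D.hε D.he (D.VA U) (D.e ⁻¹ᵁ (D.a ⁻¹ᵁ U.1)) rfl
      le_rfl).2
    rw [D.hεk] at h
    rw [Scheme.Hom.app_eq_appLE]
    exact h

theorem sit_rho_surjective : Function.Surjective (D.sit U).ρ := D.b.app_surjective U.1 U.2

theorem flat_IA : ((Ideal.Quotient.mk (D.IA U)).comp (cst D.prA (D.a ⁻¹ᵁ U.1))).Flat := by
  haveI := D.flat_z
  have hflat : (cst (D.z ≫ D.prA) (D.z ⁻¹ᵁ (D.a ⁻¹ᵁ U.1))).Flat :=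
    cst_flat (D.z ≫ D.prA) ⟨_, (D.VA U).2.preimage D.z⟩
  have hI : D.IA U = RingHom.ker (D.z.app (D.a ⁻¹ᵁ U.1)).hom := Scheme.Hom.ker_apply D.z (D.VA U)
  rw [hI]
  let q := RingHom.quotientKerEquivOfSurjective (D.z.app_surjective (D.a ⁻¹ᵁ U.1) (D.VA U).2)
  have h2 := hflat.comp (RingHom.Flat.of_bijective (f := q.symm.toRingHom) q.symm.bijective)
  convert h2 using 1
  refine RingHom.ext fun s => q.injective ?_
  show _ = q (q.symm (cst (D.z ≫ D.prA) (D.z ⁻¹ᵁ (D.a ⁻¹ᵁ U.1)) s))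
  rw [RingEquiv.apply_symm_apply]
  show D.z.app (D.a ⁻¹ᵁ U.1) (cst D.prA (D.a ⁻¹ᵁ U.1) s) = _
  exact cst_comp (φ := 𝟙 D.A) D.z D.prA (D.z ≫ D.prA) (by rw [Spec.map_id, Category.comp_id]) (D.a ⁻¹ᵁ U.1) s

end Data

end Groth.Agent.EmbLift
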