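import Groth.Agent.EmbLift.Ring
import Groth.Agent.ArtFunLib.HilbClosedExt
import Groth.Agent.SmDef.Local
import Groth.Agent.LiftGlue.ExtVanish
import Groth.Agent.H1PP.GrMap
import Groth.Agent.QCoh.VanIdeal
import Groth.Prelude.Def_Omega2
import Groth.Prelude.Def_Mor2
import Mathlib.RingTheory.Regular.Flat

/-!
# A square-zero step of an embedded flat lift of a regular immersion
-/

set_option autoImplicit false
attribute [-instance] CategoryTheory.catToReflQuiver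
set_option linter.style.haveILetI false
set_option backward.isDefEq.respectTransparency false
set_option backward.isDefEq.respectTransparency.types false
set_option maxHeartbeats 1600000

universe u

open CategoryTheory CategoryTheory.Limits AlgebraicGeometry Opposite TopologicalSpace

noncomputable section

namespace Groth.Agent.EmbLift

namespace Data

variable (D : Data.{u})

/-- The preimage of the ideal of `X` in `P`. -/
def P' : D.P.IdealSheafData := (D.z ≫ D.a).ker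

theorem P'_ideal (U : D.P.affineOpens) : D.P'.ideal U = (D.IA U).comap (D.a.app U.1).hom := by
  ext x
  show x ∈ (D.z ≫ D.a).ker.ideal U ↔ D.a.app U.1 x ∈ D.z.ker.ideal (D.VA U)
  rw [Scheme.Hom.ker_apply, Scheme.Hom.ker_apply, RingHom.mem_ker, RingHom.mem_ker]
  rfl

theorem map_P' (U : D.P.affineOpens) : (D.P'.ideal U).map (D.b.app U.1).hom = D.I0 U := by
  rw [P'_ideal, show (D.b.app U.1).hom = (D.e.app (D.a ⁻¹ᵁ U.1)).hom.comp (D.a.app U.1).hom from rfl,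
    ← Ideal.map_map, Ideal.map_comap_of_surjective _ (D.a.app_surjective U.1 U.2), D.map_IA]

abbrev G : D.P.Modules := ClSub.idealMod D.P'

abbrev M : D.P.Modules := (Scheme.Modules.pushforward D.b).obj (ClSub.idealMod D.z0.ker)

abbrev Q : D.P.Modules := (Scheme.Modules.pushforward D.i).obj (Coh.structureModule D.X0)

/-- Sections of the ideal of `X₀` as functions on `P₀`. -/
def el0 (U : D.P.Opens) : Γ(D.M, U) →+ Γ(D.P0, D.b ⁻¹ᵁ U) :=
  AddMonoidHom.mk' (fun v => OmegaSh.idealSect D.z0.ker (D.b ⁻¹ᵁ U) v) fun _ _ =>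
    map_add (OmegaSh.idealSect D.z0.ker (D.b ⁻¹ᵁ U)) _ _

theorem el0_smul (U : D.P.Opens) (r : Γ(D.P, U)) (v : Γ(D.M, U)) :
    D.el0 U (r • v) = D.b.app U r * D.el0 U v :=
  OmegaLib.idealSect_smul D.z0.ker (D.b ⁻¹ᵁ U) (D.b.app U r) v

theorem exists_phi : ∃ φ : D.G ⟶ D.M, (∀ U : D.P.affineOpens, Function.Surjective (φ.app U.1)) ∧
    ∀ (U : D.P.affineOpens) s, D.el0 U.1 (φ.app U.1 s) = D.b.app U.1 (OmegaSh.idealSect D.P' U.1 s) := by
  have hex : ∀ (U : D.P.affineOpens) (s : Γ(D.G, U.1)),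
      ∃ v : Γ(D.M, U.1), D.el0 U.1 v = D.b.app U.1 (OmegaSh.idealSect D.P' U.1 s) := fun U s => by
    refine OmegaLib.exists_of_mem D.z0.ker (D.V0 U) _ ?_
    show _ ∈ D.I0 U
    rw [← D.map_P' U]
    exact Ideal.mem_map_of_mem _ (OmegaLib.idealSect_mem D.P' U s)
  choose f hf using hex
  have hinj : ∀ U : D.P.Opens, Function.Injective (D.el0 U) := fun U =>
    OmegaLib.idealSect_injective D.z0.ker (D.b ⁻¹ᵁ U)
  obtain ⟨φ, hφ⟩ := ArtFunLib.FamilyHom.exists_hom_of_family (fun U => AddMonoidHom.mk' (f U) (fun s s' =>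
      hinj U.1 (by rw [map_add, hf, hf, hf, map_add, map_add])))
    (fun U V hV s => by
      apply hinj V.1
      show D.el0 V.1 (D.M.presheaf.map (homOfLE hV).op (f U s)) = D.el0 V.1 (f V _)
      rw [hf, OmegaLib.idealSect_map]
      refine (OmegaLib.idealSect_map D.z0.ker (D.b.preimage_mono hV) (f U s)).trans ?_
      show D.P0.presheaf.map _ (D.el0 U.1 (f U s)) = _
      rw [hf]
      exact (congr($(D.b.naturality (homOfLE hV).op) (OmegaSh.idealSect D.P' U.1 s))).symm)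
    (fun U r s => hinj U.1 (by
      show D.el0 U.1 (f U (r • s)) = D.el0 U.1 (r • f U s)
      rw [el0_smul, hf, hf, OmegaLib.idealSect_smul, map_mul]))
  have hval : ∀ (U : D.P.affineOpens) s, D.el0 U.1 (φ.app U.1 s) = D.b.app U.1 (OmegaSh.idealSect D.P' U.1 s) :=
    fun U s => (congrArg _ (hφ U s)).trans (hf U s)
  refine ⟨φ, fun U v => ?_, hval⟩
  have hv : D.el0 U.1 v ∈ D.I0 U := OmegaLib.idealSect_mem D.z0.ker (D.V0 U) v
  rw [← D.map_P' U] at hv
  obtain ⟨x, hx, hxv⟩ := (Ideal.mem_map_iff_of_surjective _ (D.b.app_surjective U.1 U.2)).1 hv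
  obtain ⟨s, rfl⟩ := OmegaLib.exists_of_mem D.P' U x hx
  exact ⟨s, hinj U.1 ((hval U s).trans hxv)⟩

/-- `m P' `. -/
def mP (U : D.P.affineOpens) : Ideal Γ(D.P, U.1) :=
  (IsLocalRing.maximalIdeal D.B).map (cst D.pr U.1) * D.P'.ideal U

theorem mP_map {U V : D.P.affineOpens} (hV : V.1 ≤ U.1) (x : Γ(D.P, U.1)) (hx : x ∈ D.mP U) :
    D.P.presheaf.map (homOfLE hV).op x ∈ D.mP V := by
  have h1 := Ideal.mem_map_of_mem (D.P.presheaf.map (homOfLE hV).op).hom hx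
  rw [mP, Ideal.map_mul, Ideal.map_map,
    show ((D.P.presheaf.map (homOfLE hV).op).hom).comp (cst D.pr U.1) = cst D.pr V.1 from
      RingHom.ext (cst_map D.pr hV)] at h1
  exact Ideal.mul_mono le_rfl (le_of_eq (D.P'.map_ideal (U := V) (V := U) hV)) h1

theorem exists_repr (U : D.P.affineOpens) (x : Γ(D.P, U.1)) (hx : x ∈ D.P'.ideal U) (h0 : D.b.app U.1 x = 0) :
    ∃ μ w, μ ∈ D.mP U ∧ x = μ + cst D.pr U.1 D.t * w := by
  rw [P'_ideal] at hx
  obtain ⟨μ, hμ, v, hv, e⟩ := Submodule.mem_sup.1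
    (ArtFunLib.HilbObsRing.inf_ker_le (D.sit U) (D.flat_IA U) ⟨hx, RingHom.mem_ker.2 h0⟩)
  obtain ⟨w, rfl⟩ := Ideal.mem_span_singleton'.1 hv
  refine ⟨μ, w, ?_, e.symm.trans (by rw [mul_comm w]; rfl)⟩
  rw [mP, P'_ideal]
  exact hμ

theorem app_eq_zero_of_mem_mP (U : D.P.affineOpens) (w : Γ(D.P, U.1)) (h : cst D.pr U.1 D.t * w ∈ D.mP U) :
    D.i.app U.1 w = 0 := by
  rw [mP, P'_ideal] at h
  have := ArtFunLib.HilbObsRing.rho_mem_of_mem_mul (D.sit U) (D.flat_IA U) w h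
  rw [show (D.sit U).ρA = (D.e.app (D.a ⁻¹ᵁ U.1)).hom from rfl, D.map_IA] at this
  exact (D.mem_I0_iff U w).1 this

/-- The obstruction map on the kernel of `φ`. -/
theorem exists_kappa (φ : D.G ⟶ D.M)
    (hφ : ∀ (U : D.P.affineOpens) s, D.el0 U.1 (φ.app U.1 s) = D.b.app U.1 (OmegaSh.idealSect D.P' U.1 s)) :
    ∃ κ : kernel φ ⟶ D.Q, ∀ (U : D.P.affineOpens) (k : Γ(kernel φ, U.1)) μ w, μ ∈ D.mP U →
      OmegaSh.idealSect D.P' U.1 ((kernel.ι φ).app U.1 k) = μ + cst D.pr U.1 D.t * w →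
      κ.app U.1 k = D.i.app U.1 w := by
  have hk0 : ∀ (U : D.P.affineOpens) (k : Γ(kernel φ, U.1)),
      D.b.app U.1 (OmegaSh.idealSect D.P' U.1 ((kernel.ι φ).app U.1 k)) = 0 := fun U k => by
    have e0 : φ.app U.1 ((kernel.ι φ).app U.1 k) = 0 := congr(($(kernel.condition φ)).app U.1 k)
    rw [← hφ, e0, map_zero]
  have hex := fun U k => D.exists_repr U _ (OmegaLib.idealSect_mem D.P' U _) (hk0 U k)
  choose fμ fw hfμ hfe using hex
  let κf : ∀ U : D.P.affineOpens, Γ(kernel φ, U.1) → Γ(D.Q, U.1) := fun U k => D.i.app U.1 (fw U k)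
  have hval : ∀ U k μ w, μ ∈ D.mP U →
      OmegaSh.idealSect D.P' U.1 ((kernel.ι φ).app U.1 k) = μ + cst D.pr U.1 D.t * w →
      κf U k = D.i.app U.1 w := fun U k μ w hμ he => by
    rw [← sub_eq_zero]
    show D.i.app U.1 (fw U k) - D.i.app U.1 w = 0
    rw [← map_sub]
    refine D.app_eq_zero_of_mem_mP U _ ?_
    rw [show cst D.pr U.1 D.t * (fw U k - w) = μ - fμ U k by linear_combination (hfe U k).symm.trans he]
    exact sub_mem hμ (hfμ U k)
  have hadd : ∀ U a b, κf U (a + b) = κf U a + κf U b := fun U a b => by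
    rw [hval U (a + b) (fμ U a + fμ U b) (fw U a + fw U b) (add_mem (hfμ U a) (hfμ U b)) (by
      rw [map_add, map_add, hfe U a, hfe U b]; ring)]
    exact map_add (D.i.app U.1).hom _ _
  obtain ⟨κ, hκ⟩ := ArtFunLib.FamilyHom.exists_hom_of_family (fun U => AddMonoidHom.mk' (κf U) (hadd U))
    (fun U V hV k => by
      show D.Q.presheaf.map (homOfLE hV).op (κf U k) = κf V ((kernel φ).presheaf.map (homOfLE hV).op k)
      rw [hval V _ _ (D.P.presheaf.map (homOfLE hV).op (fw U k)) (D.mP_map hV _ (hfμ U k)) (by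
        rw [ArtFunLib.HilbMod.app_map, OmegaLib.idealSect_map, hfe U k, map_add, map_mul, cst_map D.pr hV])]
      exact (congr($(D.i.naturality (homOfLE hV).op) (fw U k))).symm)
    (fun U r k => by
      show κf U (r • k) = r • κf U k
      rw [hval U _ (r * fμ U k) (r * fw U k) (Ideal.mul_mem_left _ _ (hfμ U k)) (by
        rw [Scheme.Modules.Hom.app_smul, OmegaLib.idealSect_smul, hfe U k]; ring)]
      exact map_mul (D.i.app U.1).hom _ _)
  exact ⟨κ, fun U k μ w hμ he => (hκ U k).trans (hval U k μ w hμ he)⟩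

/-- A small affine on which the ideal of `X₀` is weakly regular, or which misses `X₀`. -/
theorem exists_good (hreg : Mor2.IsRegularClosedImmersion D.z0) (U : D.P.affineOpens) (q : D.P) (hq : q ∈ U.1) :
    ∃ W : D.P.affineOpens, q ∈ W.1 ∧ W.1 ≤ U.1 ∧
      (Subsingleton Γ(D.X0, D.i ⁻¹ᵁ W.1) ∨ ∃ rs : List Γ(D.P0, D.b ⁻¹ᵁ W.1),
        RingTheory.Sequence.IsWeaklyRegular Γ(D.P0, D.b ⁻¹ᵁ W.1) rs ∧ D.I0 W = Ideal.ofList rs) := by
  by_cases hr : q ∈ Set.range D.i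
  · obtain ⟨w, rfl⟩ := hr
    obtain ⟨Uz, hUz, hz, rs, hrs, hI⟩ := hreg.2 w
    obtain ⟨W₀, hW₀, hW₀e⟩ := D.b.isClosedEmbedding.isInducing.isOpen_iff.1 Uz.2
    have hwW : D.i w ∈ W₀ := by
      have : D.z0 w ∈ D.b ⁻¹' W₀ := hW₀e.symm ▸ hz
      exact this
    obtain ⟨_, ⟨W, hW, rfl⟩, hqW, hWU⟩ :=
      D.P.isBasis_affineOpens.exists_subset_of_mem_open (show D.i w ∈ (U.1 : Set D.P) ∩ W₀ from ⟨hq, hwW⟩)
        (U.1.2.inter hW₀)
    have hle : D.b ⁻¹ᵁ W ≤ Uz := fun x hx => by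
      have : x ∈ D.b ⁻¹' W₀ := (hWU hx).2
      rw [hW₀e] at this
      exact this
    refine ⟨⟨W, hW⟩, hqW, fun x hx => (hWU hx).1, Or.inr ?_⟩
    let f := (D.P0.presheaf.map (homOfLE hle).op).hom
    have hflat : f.Flat := by
      have h := (𝟙 D.P0 : D.P0 ⟶ D.P0).flat_appLE hUz (V := D.b ⁻¹ᵁ W) (D.V0 ⟨W, hW⟩).2
        (show D.b ⁻¹ᵁ W ≤ (𝟙 D.P0) ⁻¹ᵁ Uz from hle)
      simp only [Scheme.Hom.appLE, Scheme.Hom.id_app, Category.id_comp] at h
      exact h
    letI : Algebra Γ(D.P0, Uz) Γ(D.P0, D.b ⁻¹ᵁ W) := f.toAlgebra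
    haveI : Module.Flat Γ(D.P0, Uz) Γ(D.P0, D.b ⁻¹ᵁ W) := hflat
    refine ⟨rs.map f, hrs.toIsWeaklyRegular.of_flat (S := Γ(D.P0, D.b ⁻¹ᵁ W)), ?_⟩
    show D.z0.ker.ideal (D.V0 ⟨W, hW⟩) = _
    rw [← D.z0.ker.map_ideal (U := D.V0 ⟨W, hW⟩) (V := ⟨Uz, hUz⟩) hle, hI, Ideal.map_ofList]
    rfl
  · obtain ⟨_, ⟨W, hW, rfl⟩, hqW, hWU⟩ :=
      D.P.isBasis_affineOpens.exists_subset_of_mem_open (show q ∈ (U.1 : Set D.P) ∩ (Set.range D.i)ᶜ from ⟨hq, hr⟩)
        (U.1.2.inter D.i.isClosedEmbedding.isClosed_range.isOpen_compl)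
    refine ⟨⟨W, hW⟩, hqW, fun x hx => (hWU hx).1, Or.inl ?_⟩
    show Subsingleton Γ(D.X0, D.i ⁻¹ᵁ W)
    rw [show D.i ⁻¹ᵁ W = ⊥ from eq_bot_iff.2 fun w hw => ((hWU hw).2 ⟨w, rfl⟩).elim]
    infer_instance

/-- The obstruction map vanishes on sections in `I₀ G`. -/
theorem kappa_eq_zero (hreg : Mor2.IsRegularClosedImmersion D.z0) (φ : D.G ⟶ D.M)
    (hφ : ∀ (U : D.P.affineOpens) s, D.el0 U.1 (φ.app U.1 s) = D.b.app U.1 (OmegaSh.idealSect D.P' U.1 s))
    (κ : kernel φ ⟶ D.Q) (hκ : ∀ (U : D.P.affineOpens) (k : Γ(kernel φ, U.1)) μ w, μ ∈ D.mP U →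
      OmegaSh.idealSect D.P' U.1 ((kernel.ι φ).app U.1 k) = μ + cst D.pr U.1 D.t * w →
      κ.app U.1 k = D.i.app U.1 w)
    (U : D.P.affineOpens) (v : Γ(kernel φ, U.1))
    (hv : (kernel.ι φ).app U.1 v ∈ D.i.ker.ideal U • (⊤ : Submodule Γ(D.P, U.1) Γ(D.G, U.1))) :
    κ.app U.1 v = 0 := by
  classical
  have hgood := fun q : U.1 => D.exists_good hreg U q.1 q.2
  choose V hqV hVU hgood using hgood
  refine TopCat.Sheaf.eq_of_locally_eq' ⟨D.Q.presheaf, Scheme.Modules.isSheaf _⟩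
    (fun q => (V q).1) U.1 (fun q => homOfLE (hVU q)) (fun a ha => Opens.mem_iSup.2 ⟨⟨a, ha⟩, hqV ⟨a, ha⟩⟩) _ _
    fun q => ?_
  show D.Q.presheaf.map (homOfLE (hVU q)).op (κ.app U.1 v) = D.Q.presheaf.map (homOfLE (hVU q)).op 0
  rw [map_zero, ← ArtFunLib.HilbMod.app_map]
  set W := V q
  set v' := (kernel φ).presheaf.map (homOfLE (hVU q)).op v
  let x := OmegaSh.idealSect D.P' W.1 ((kernel.ι φ).app W.1 v')
  have hx0 : D.b.app W.1 x = 0 := by
    have e0 : φ.app W.1 ((kernel.ι φ).app W.1 v') = 0 := congr(($(kernel.condition φ)).app W.1 v')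
    rw [← hφ, e0, map_zero]
  have hxJ : x ∈ D.i.ker.ideal W * (D.IA W).comap (D.a.app W.1).hom := by
    rw [← D.P'_ideal]
    have h2 : ∀ s ∈ (D.i.ker.ideal U • (⊤ : Submodule Γ(D.P, U.1) Γ(D.G, U.1))),
        OmegaSh.idealSect D.P' W.1 (D.G.presheaf.map (homOfLE (hVU q)).op s) ∈
          D.i.ker.ideal W * D.P'.ideal W := fun s hs => by
      refine Submodule.smul_induction_on hs (fun a ha n _ => ?_) fun m₁ m₂ h₁ h₂ => ?_
      · rw [Scheme.Modules.map_smul, OmegaLib.idealSect_smul]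
        refine Ideal.mul_mem_mul ?_ (OmegaLib.idealSect_mem D.P' W _)
        rw [← D.i.ker.map_ideal (U := W) (V := U) (hVU q)]
        exact Ideal.mem_map_of_mem _ ha
      · rw [map_add, map_add]
        exact add_mem h₁ h₂
    show OmegaSh.idealSect D.P' W.1 ((kernel.ι φ).app W.1 v') ∈ _
    rw [ArtFunLib.HilbMod.app_map]
    exact h2 _ hv
  obtain ⟨μ, w, hμ, hxw⟩ := D.exists_repr W x (OmegaLib.idealSect_mem D.P' W _) hx0
  rw [hκ W v' μ w hμ hxw]
  rcases hgood q with hss | ⟨rs, hrs, hrsI⟩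
  · exact Subsingleton.elim (α := Γ(D.X0, D.i ⁻¹ᵁ W.1)) _ _
  · let σ := D.sit W
    have hlift : ∀ i : Fin rs.length, ∃ a ∈ D.P'.ideal W, D.b.app W.1 a = rs[i] := fun i => by
      refine (Ideal.mem_map_iff_of_surjective _ (D.b.app_surjective W.1 W.2)).1 ?_
      rw [D.map_P', hrsI]
      exact Ideal.subset_span (List.getElem_mem _)
    choose g hgP hgρ using hlift
    have hρg : (σ.ρ ∘ g) = fun j : Fin rs.length => rs[j] := funext hgρ
    have hsep : ∀ (i : Fin rs.length) (a : Γ(D.P0, D.b ⁻¹ᵁ W.1)), a * σ.ρ (g i) ∈ Ideal.span ((σ.ρ ∘ g) '' {j | j < i}) →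
        a ∈ Ideal.span ((σ.ρ ∘ g) '' {j | j < i}) := fun i a ha => by
      rw [hρg] at ha ⊢
      rw [show σ.ρ (g i) = rs[i] from hgρ i] at ha
      exact ArtFunLib.HilbKoszul.sep_of_isWeaklyRegular rs hrs i a ha
    have hA : (D.IA W).map σ.ρA = D.I0 W := D.map_IA W
    have hJ : (D.i.ker.ideal W).map σ.ρ ≤ (D.IA W).map σ.ρA := by
      rw [hA]
      refine Ideal.map_le_iff_le_comap.2 fun y hy => ?_
      rw [Scheme.Hom.ker_apply, RingHom.mem_ker] at hy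
      exact (D.mem_I0_iff W y).2 hy
    have hgen : (D.IA W).map σ.ρA ≤ Ideal.span (Set.range (σ.ρ ∘ g)) := by
      rw [hA, hrsI, hρg]
      refine Ideal.span_le.2 fun y hy => Ideal.subset_span ?_
      obtain ⟨i, hi, rfl⟩ := List.mem_iff_getElem.1 hy
      exact ⟨⟨i, hi⟩, rfl⟩
    have hμ' : μ ∈ σ.m.map σ.c * (D.IA W).comap σ.π := by
      rw [mP, P'_ideal] at hμ
      exact hμ
    have := ArtFunLib.HilbKoszul.rho_mem σ (D.flat_IA W) (D.sit_rho_surjective W) g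
      (fun i => by have := hgP i; rwa [P'_ideal] at this) hgen hsep _ hJ x hxJ hx0 μ w hμ' hxw
    rw [hA] at this
    exact (D.mem_I0_iff W w).1 this

/-- The morphism on the ideal of `X` whose kernel is the ideal of a lift. -/
theorem exists_theta (hreg : Mor2.IsRegularClosedImmersion D.z0) [HasExt.{u} D.X0.Modules]
    (h1 : Subsingleton (Abelian.Ext.{u} (Omega.conormal D.z0) (Coh.structureModule D.X0) 1)) :
    ∃ θ : D.G ⟶ D.Q, ∀ (U : D.P.affineOpens) (s : Γ(D.G, U.1)) w,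
      OmegaSh.idealSect D.P' U.1 s = cst D.pr U.1 D.t * w → θ.app U.1 s = D.i.app U.1 w := by
  obtain ⟨φ, hsurj, hφ⟩ := D.exists_phi
  haveI : Epi φ := ⟨fun {N} g g' hg => ArtFunLib.HilbTangent.hom_ext_affine fun U v => by
    obtain ⟨s, rfl⟩ := hsurj U v
    exact congr(($hg).app U.1 s)⟩
  obtain ⟨κ, hκ⟩ := D.exists_kappa φ hφ
  have hG : Coh.IsQCoh D.G := H1PP.GrMap.isQCoh_idealMod _
  have hM : Coh.IsQCoh D.M := QCoh.isQCoh_pushforward _ (H1PP.GrMap.isQCoh_idealMod _)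
  haveI := AmpleVan.isIso_counit D.b (H1PP.GrMap.isQCoh_idealMod D.z0.ker)
  let eC : (Scheme.Modules.pullback D.i).obj D.M ≅ Omega.conormal D.z0 :=
    ((Scheme.Modules.pullbackComp D.z0 D.b).app D.M).symm ≪≫
      (Scheme.Modules.pullback D.z0).mapIso
        (asIso ((Scheme.Modules.pullbackPushforwardAdjunction D.b).counit.app (ClSub.idealMod D.z0.ker)))
  obtain ⟨θ, hθ⟩ := ArtFunLib.HilbClosedExt.exists_extension D.i hG hM φ hsurj
    (LiftGlue.subsingleton_ext_of_iso eC (Iso.refl _) h1) (Iso.refl D.Q) κ (D.kappa_eq_zero hreg φ hφ κ hκ)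
  refine ⟨θ, fun U s w he => ?_⟩
  have hs0 : φ.app U.1 s = 0 := OmegaLib.idealSect_injective D.z0.ker (D.b ⁻¹ᵁ U.1) (by
    refine (hφ U s).trans ?_
    have hct : D.b.app U.1 (cst D.pr U.1 D.t) = 0 := by
      have := (D.sit U).hρker.ge (Ideal.mem_map_of_mem _ (D.sit U).htm)
      exact RingHom.mem_ker.1 this
    rw [he, map_mul, hct, zero_mul, map_zero])
  have hk := OmegaSh.ι_kerLift φ U.1 s hs0
  have e2 : θ.app U.1 ((kernel.ι φ).app U.1 (OmegaSh.kerLift φ U.1 s hs0)) =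
      κ.app U.1 (OmegaSh.kerLift φ U.1 s hs0) := congr(($hθ).app U.1 _)
  rw [hk] at e2
  exact e2.trans (hκ U _ 0 w (zero_mem _) (by rw [hk, he, zero_add]))

/-- The kernel of a morphism on an ideal sheaf is an ideal sheaf. -/
theorem exists_ideal {P : Scheme.{u}} (P' : P.IdealSheafData) {Q : P.Modules} (hQ : Coh.IsQCoh Q)
    (θ : ClSub.idealMod P' ⟶ Q) :
    ∃ J : P.IdealSheafData, ∀ (U : P.affineOpens) (x : Γ(P, U.1)),
      x ∈ J.ideal U ↔ ∃ s, OmegaSh.idealSect P' U.1 s = x ∧ θ.app U.1 s = 0 := by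
  let Jf : ∀ U : P.affineOpens, Ideal Γ(P, U.1) := fun U =>
    { carrier := {x | ∃ s, OmegaSh.idealSect P' U.1 s = x ∧ θ.app U.1 s = 0}
      zero_mem' := ⟨0, map_zero _, map_zero (θ.app U.1).hom⟩
      add_mem' := by
        rintro a b ⟨s, rfl, hs⟩ ⟨s', rfl, hs'⟩
        exact ⟨s + s', map_add _ _ _, by rw [map_add, hs, hs', add_zero]⟩
      smul_mem' := by
        rintro r a ⟨s, rfl, hs⟩
        exact ⟨r • s, OmegaLib.idealSect_smul P' U.1 r s, by rw [Scheme.Modules.Hom.app_smul, hs, smul_zero]⟩ }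
  refine ⟨{ ideal := Jf, map_ideal_basicOpen := fun U f => ?_ }, fun U x => Iff.rfl⟩
  have hle := P.basicOpen_le f
  refine le_antisymm (Ideal.map_le_iff_le_comap.2 ?_) ?_
  · rintro x ⟨s, rfl, hs⟩
    refine ⟨(ClSub.idealMod P').presheaf.map (homOfLE hle).op s, OmegaLib.idealSect_map P' hle s, ?_⟩
    show θ.app (P.basicOpen f) _ = 0
    rw [ArtFunLib.HilbMod.app_map, hs, map_zero]
  · rintro x ⟨s, rfl, hs⟩
    let k := OmegaSh.kerLift θ (P.basicOpen f) s hs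
    have hk : (kernel.ι θ).app (P.basicOpen f) k = s := OmegaSh.ι_kerLift θ _ s hs
    obtain ⟨n, t, ht⟩ := QCoh.exists_pow_smul_eq_map
      (QCoh.isQCoh_kernel (H1PP.GrMap.isQCoh_idealMod P') hQ θ) U.2 f k
    let r := (P.presheaf.map (homOfLE hle).op).hom
    have ht' : r (OmegaSh.idealSect P' U.1 ((kernel.ι θ).app U.1 t)) =
        r f ^ n * OmegaSh.idealSect P' (P.basicOpen f) s := by
      refine (OmegaLib.idealSect_map P' hle _).symm.trans ?_
      rw [← ArtFunLib.HilbMod.app_map, ht, Scheme.Modules.Hom.app_smul, hk, OmegaLib.idealSect_smul]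
    have hu : IsUnit (r f ^ n) := IsUnit.pow n (P.toRingedSpace.isUnit_res_basicOpen f)
    refine (Ideal.unit_mul_mem_iff_mem _ hu).1 ?_
    show r f ^ n * OmegaSh.idealSect P' (P.basicOpen f) s ∈ _
    rw [← ht']
    refine Ideal.mem_map_of_mem r ⟨(kernel.ι θ).app U.1 t, rfl, ?_⟩
    exact congr(($(kernel.condition θ)).app U.1 t)

/-- The ideal of a flat lift. -/
theorem exists_lift_ideal (hreg : Mor2.IsRegularClosedImmersion D.z0) [HasExt.{u} D.X0.Modules]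
    (h1 : Subsingleton (Abelian.Ext.{u} (Omega.conormal D.z0) (Coh.structureModule D.X0) 1)) :
    ∃ J : D.P.IdealSheafData, J ≤ D.P' ∧
      (∀ U : D.P.affineOpens, (J.ideal U).map (D.a.app U.1).hom = D.IA U) ∧
      ∀ U : D.P.affineOpens, ((Ideal.Quotient.mk (J.ideal U)).comp (cst D.pr U.1)).Flat := by
  obtain ⟨θ, hθ⟩ := D.exists_theta hreg h1
  have hQ : Coh.IsQCoh D.Q := QCoh.isQCoh_pushforward _ (QCoh.isQCoh_structureModule)
  obtain ⟨J, hJ⟩ := exists_ideal D.P' hQ θ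
  have hle : ∀ U, J.ideal U ≤ D.P'.ideal U := fun U x hx => by
    obtain ⟨s, rfl, -⟩ := (hJ U x).1 hx
    exact OmegaLib.idealSect_mem D.P' U s
  have hct : ∀ (U : D.P.affineOpens) (w : Γ(D.P, U.1)),
      D.a.app U.1 (cst D.pr U.1 D.t * w) = 0 := fun U w => by
    have : D.a.app U.1 (cst D.pr U.1 D.t) = 0 := by
      refine RingHom.mem_ker.1 ((D.sit U).hπker.ge (Ideal.mem_span_singleton_self _))
    rw [map_mul, this, zero_mul]
  have hcz : ∀ (U : D.P.affineOpens) (w : Γ(D.P, U.1)), ∃ s, OmegaSh.idealSect D.P' U.1 s = cst D.pr U.1 D.t * w ∧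
      θ.app U.1 s = D.i.app U.1 w := fun U w => by
    obtain ⟨s, hs⟩ := OmegaLib.exists_of_mem D.P' U (cst D.pr U.1 D.t * w) (by
      rw [P'_ideal, Ideal.mem_comap, hct]; exact zero_mem _)
    exact ⟨s, hs, hθ U s w hs⟩
  have hmap : ∀ U, (J.ideal U).map (D.a.app U.1).hom = D.IA U := fun U => by
    refine le_antisymm (Ideal.map_le_iff_le_comap.2 fun x hx => ?_) fun α hα => ?_
    · rw [← P'_ideal]; exact hle U hx
    · obtain ⟨x, rfl⟩ := D.a.app_surjective U.1 U.2 α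
      obtain ⟨s, hs⟩ := OmegaLib.exists_of_mem D.P' U x (by rw [P'_ideal]; exact hα)
      obtain ⟨w, hw⟩ := D.i.app_surjective U.1 U.2 (θ.app U.1 s)
      obtain ⟨s', hs', hs'θ⟩ := hcz U w
      have hmem : x - cst D.pr U.1 D.t * w ∈ J.ideal U :=
        (hJ U _).2 ⟨s - s', by rw [map_sub, hs, hs'], by rw [map_sub, hs'θ, hw]; exact sub_self _⟩
      have h5 := Ideal.mem_map_of_mem (D.a.app U.1).hom hmem
      rwa [map_sub, hct, sub_zero] at h5
  refine ⟨J, hle, hmap, fun U => ?_⟩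
  refine ArtFunLib.HilbObsRing.flat_of_lift (D.sit U) (D.flat_IA U) (D.sit_rho_surjective U) (J.ideal U) (hmap U)
    fun w hw => ?_
  obtain ⟨s, hs, hs0⟩ := (hJ U _).1 hw
  show D.b.app U.1 w ∈ (D.IA U).map (D.e.app (D.a ⁻¹ᵁ U.1)).hom
  rw [D.map_IA, D.mem_I0_iff, ← hθ U s w hs, hs0]

/-- A flat embedded lift of `X` to `P`. -/
theorem exists_lift (hreg : Mor2.IsRegularClosedImmersion D.z0) [HasExt.{u} D.X0.Modules]
    (h1 : Subsingleton (Abelian.Ext.{u} (Omega.conormal D.z0) (Coh.structureModule D.X0) 1)) :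
    ∃ (X' : Scheme.{u}) (z' : X' ⟶ D.P) (t : D.X ⟶ X'), IsClosedImmersion z' ∧ Flat (z' ≫ D.pr) ∧
      IsPullback t D.z z' D.a := by
  obtain ⟨J, hle, hmap, hflat⟩ := D.exists_lift_ideal hreg h1
  have hk : J.subschemeι.ker ≤ (D.z ≫ D.a).ker := by rw [J.ker_subschemeι]; exact hle
  let t : D.X ⟶ J.subscheme := IsClosedImmersion.lift J.subschemeι (D.z ≫ D.a) hk
  have hcomap : J.comap D.a = D.z.ker := by
    refine Scheme.IdealSheafData.ext_of_iSup_eq_top (fun U => D.VA U) ?_ fun U => ?_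
    · show ⨆ U : D.P.affineOpens, D.a ⁻¹ᵁ U.1 = ⊤
      rw [← Scheme.Hom.preimage_iSup, iSup_affineOpens_eq_top]; rfl
    · rw [ModPairLib.ideal_comap J D.a U (D.VA U) le_rfl]
      refine Eq.trans ?_ (hmap U)
      rw [Scheme.Hom.app_eq_appLE]
      rfl
  refine ⟨J.subscheme, J.subschemeι, t, inferInstance, ?_,
    (SmDef.isPullback_of_ker_eq D.z t D.a J.subschemeι (IsClosedImmersion.lift_fac _ _ _).symm ?_).flip⟩
  · let O : D.P.affineOpens → J.subscheme.affineOpens := fun U => ⟨J.subschemeι ⁻¹ᵁ U.1, U.2.preimage _⟩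
    rw [HasRingHomProperty.iff_of_iSup_eq_top (P := @Flat) O (by
      show ⨆ U : D.P.affineOpens, J.subschemeι ⁻¹ᵁ U.1 = ⊤
      rw [← Scheme.Hom.preimage_iSup, iSup_affineOpens_eq_top]; rfl)]
    intro U
    rw [← Scheme.Hom.appLE_comp_appLE J.subschemeι D.pr ⊤ U.1 _ (fun _ _ => trivial) le_rfl,
      ← Scheme.Hom.app_eq_appLE, Scheme.IdealSheafData.subschemeι_app]
    have h2 := (RingHom.Flat.of_bijective (ConcreteCategory.bijective_of_isIso
      (Scheme.ΓSpecIso D.B).hom)).comp ((hflat U).comp (RingHom.Flat.of_bijective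
        (ConcreteCategory.bijective_of_isIso (J.subschemeObjIso U).inv)))
    convert h2 using 1
    refine RingHom.ext fun b => ?_
    show _ = (J.subschemeObjIso U).inv (Ideal.Quotient.mk _ ((D.pr.appLE ⊤ U.1 _)
      ((Scheme.ΓSpecIso D.B).inv ((Scheme.ΓSpecIso D.B).hom b))))
    rw [← ConcreteCategory.comp_apply (Scheme.ΓSpecIso D.B).hom, Iso.hom_inv_id, ConcreteCategory.id_apply]
    rfl
  · rw [J.ker_subschemeι, hcomap]

end Data

end Groth.Agent.EmbLift
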